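import Cfsg.Agent.Lib.S3342Two.Fuse
import Cfsg.Agent.Lib.Techniques.PConstrained

/-!
S3342, the case of an orbit of two points: the centraliser of the central involution normalises the line.
-/

set_option autoImplicit false
set_option maxRecDepth 20000
set_option synthInstance.maxSize 10000
set_option linter.style.haveILetI false
set_option linter.unusedSectionVars false

namespace Cfsg.Agent.S3342Two

open Cfsg.Agent.Hayden Cfsg.Agent.Hayden.Cfg

universe u

theorem chk_pl_vi : vi 1 = 9 ∧ vi 9 = 27 ∧ (1 : ℕ) ∈ pl ∧ (9 : ℕ) ∈ pl := by decide +kernel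

variable {G : Type u} [Group G] [Finite G] {el : ℕ → G} (C : Cfg el)
include C

/-- The plane centralised by the involution. -/
def TP : Subgroup G :=
  M12Cent.ofClosed {g | ∃ v ∈ pl, el (vi v) = g}
    ⟨0, by decide, by rw [chk_vi.2.1, C.el_zero]⟩ (by
    rintro _ ⟨v, hv, rfl⟩ _ ⟨w, hw, rfl⟩
    exact ⟨vadd v w, (show ∀ v ∈ pl, ∀ w ∈ pl, vadd v w ∈ pl by decide +kernel) v hv w hw,
      C.el_vadd (pl_ok.1 v hv).1 (pl_ok.1 w hw).1⟩)

theorem TP_le_VJ : TP C ≤ C.VJ := fun _ ⟨v, hv, h⟩ => ⟨v, (pl_ok.1 v hv).1, h⟩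

theorem TP_le_cent : TP C ≤ Subgroup.centralizer ({el 81} : Set G) := by
  rintro _ ⟨v, hv, rfl⟩
  refine Subgroup.mem_centralizer_singleton_iff.2 ?_
  have h := C.conj_z (pl_ok.1 v hv).1
  rw [(pl_ok.1 v hv).2.1] at h
  exact (mul_inv_eq_iff_eq_mul.1 h).symm

theorem TP_card : Nat.card (TP C) = 3 ^ 2 := by
  classical
  have e : Nat.card (TP C) = pl.toFinset.card := by
    rw [← Nat.card_eq_finsetCard]
    refine (Nat.card_eq_of_bijective (fun v : pl.toFinset => (⟨el (vi v), v, List.mem_toFinset.1 v.2, rfl⟩ : TP C))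
      ⟨fun v w h => Subtype.ext (C.vi_inj (pl_ok.1 _ (List.mem_toFinset.1 v.2)).1
        (pl_ok.1 _ (List.mem_toFinset.1 w.2)).1 (congrArg Subtype.val h)), fun ⟨_, v, hv, h⟩ =>
        ⟨⟨v, List.mem_toFinset.2 hv⟩, Subtype.ext h⟩⟩).symm
  rw [e, List.toFinset_card_of_nodup pl_ok.2.2]
  rfl

theorem TP_nine : el 9 ∈ TP C := ⟨1, chk_pl_vi.2.2.1, by rw [chk_pl_vi.1]⟩

/-- Both generators of the plane determine an action on it. -/
theorem TP_act {g : G} (f : G → G) (hmul : ∀ x ∈ TP C, ∀ y ∈ TP C, f (x * y) = f x * f y) (h1 : f 1 = 1)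
    (e9 : g * el 9 * g⁻¹ = f (el 9)) (e27 : g * el 27 * g⁻¹ = f (el 27)) :
    ∀ x ∈ TP C, g * x * g⁻¹ = f x := by
  have hpow : ∀ x ∈ TP C, g * x * g⁻¹ = f x → ∀ k : ℕ, g * x ^ k * g⁻¹ = f (x ^ k) := fun x hx e k => by
    induction k with
    | zero => rw [pow_zero, mul_one, mul_inv_cancel, h1]
    | succ k ih =>
      rw [pow_succ, hmul _ (pow_mem hx k) _ hx, ← ih, ← e]
      group
  rintro _ ⟨v, hv, rfl⟩
  obtain ⟨hv27, -, -, hve⟩ := pl_ok.1 v hv
  have h27 : el 27 ∈ TP C := ⟨9, chk_pl_vi.2.2.2, by rw [chk_pl_vi.2.1]⟩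
  rw [show el (vi v) = el 9 ^ (v % 3) * el 27 ^ (v / 9) by
    conv_lhs => rw [hve]
    rw [C.el_vadd (C.vsm_lt (by norm_num)) (C.vsm_lt (by norm_num)), C.el_vsm (Nat.mod_lt _ (by norm_num))
      (by norm_num), C.el_vsm (by omega) (by norm_num), chk_pl_vi.1, chk_pl_vi.2.1]]
  rw [hmul _ (pow_mem (TP_nine C) _) _ (pow_mem h27 _), ← hpow _ (TP_nine C) e9, ← hpow _ h27 e27]
  group

variable (hO : ∀ v < 27, C.Orb v ↔ v = 1 ∨ v = 2)
include hO

theorem VJ_le_nm : C.VJ ≤ nm el := fun _ h => norm_le_nm C hO (Subgroup.le_normalizer h)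

/-- An element inverting the plane, centralising the involution. -/
theorem exists_inverter : ∃ n : G, n * el 81 = el 81 * n ∧ n * el 9 * n⁻¹ = (el 9)⁻¹ ∧
    ∀ x ∈ TP C, n * x * n⁻¹ = x⁻¹ := by
  obtain ⟨n, hz, hn⟩ := C.exists_lift (real_neg C hO) chk_maps.2.1
  have key : ∀ v < 27, n * el (vi v) * n⁻¹ = (el (vi v))⁻¹ := fun v hv => by
    rw [hn v hv, chk_maps.2.2.2.2.1 v hv, C.orb_inv hv]
  refine ⟨n, hz, by rw [← chk_pl_vi.1]; exact key 1 (by norm_num), ?_⟩
  rintro _ ⟨v, hv, rfl⟩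
  exact key v (pl_ok.1 v hv).1

/-- An element of the centraliser of the involution normalising the plane centralises or inverts it. -/
theorem TP_norm {g : G} (hg : g * el 81 = el 81 * g) (hN : ∀ x ∈ TP C, g * x * g⁻¹ ∈ TP C) :
    g ∈ nm el ∧ ((∀ x ∈ TP C, g * x * g⁻¹ = x) ∨ ∀ x ∈ TP C, g * x * g⁻¹ = x⁻¹) := by
  have h93 : el 9 ^ 3 = 1 := by rw [← C.order_nine, pow_orderOf_eq_one]
  have hgM : g ∈ nm el := mem_of_conj_three C hO (VJ_le_nm C hO C.a_mem) h93 C.el_nine_ne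
    (VJ_le_nm C hO (TP_le_VJ C (hN _ (TP_nine C))))
  refine ⟨hgM, ?_⟩
  -- the part centralising the element
  have key : ∀ k : G, k * el 81 = el 81 * k → (∀ x ∈ TP C, k * x * k⁻¹ ∈ TP C) → k * el 9 * k⁻¹ = el 9 →
      ∀ x ∈ TP C, k * x * k⁻¹ = x := by
    intro k hk hkN hk9
    obtain ⟨i, hi, rfl⟩ := exists_index C hk9
    refine TP_act C id (fun _ _ _ _ => rfl) rfl hk9 ?_
    obtain ⟨v, hv, hve⟩ := hkN (el 27) ⟨9, chk_pl_vi.2.2.2, by rw [chk_pl_vi.2.1]⟩
    rw [C.conj hi (by norm_num)] at hve ⊢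
    show el (cj i 27) = el 27
    rw [((chk_cent_z i hi ((C.comm_iff hi (by norm_num)).1 hk)).2
      ⟨v, hv, C.inj _ (chk_j.1 v (pl_ok.1 v hv).1) _ (cj_lt hi (by norm_num)) hve⟩).1]
  rcases (mem_nm C).1 hgM with h | h
  · exact Or.inl (key g hg hN h)
  · right
    obtain ⟨n, hz, hn9, hn⟩ := exists_inverter C hO
    have hgn : ∀ x ∈ TP C, g * n * x * (g * n)⁻¹ = g * x⁻¹ * g⁻¹ := fun x hx => by
      rw [← hn x hx]; group
    have := key (g * n) ((show Commute g (el 81) from hg).mul_left hz).eq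
      (fun x hx => by rw [hgn x hx]; exact hN _ (inv_mem hx))
      (by rw [hgn _ (TP_nine C), ← conj_inv, h, inv_inv])
    intro x hx
    have e := this _ (inv_mem hx)
    rwa [hgn _ (inv_mem hx), inv_inv] at e

/-- The plane is a Sylow subgroup of the centraliser of the involution. -/
theorem sylow_cent : ∃ P : Sylow 3 (Subgroup.centralizer ({el 81} : Set G)),
    (P : Subgroup _) = (TP C).subgroupOf (Subgroup.centralizer ({el 81} : Set G)) := by
  haveI : Fact (Nat.Prime 3) := ⟨Nat.prime_three⟩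
  set D := Subgroup.centralizer ({el 81} : Set G)
  obtain ⟨P, hP⟩ := (IsPGroup.of_card (n := 2) (show Nat.card ((TP C).subgroupOf D) = 3 ^ 2 by
    rw [Nat.card_congr (Subgroup.subgroupOfEquivOfLe (TP_le_cent C)).toEquiv, TP_card C])).exists_le_sylow
  refine ⟨P, ?_⟩
  by_contra hne
  haveI : Group.IsNilpotent (P : Subgroup D) := P.isPGroup'.isNilpotent
  set S' := ((TP C).subgroupOf D).subgroupOf (P : Subgroup D)
  have hS' : S' < ⊤ := lt_top_iff_ne_top.2 fun h => hne (le_antisymm (Subgroup.subgroupOf_eq_top.1 h) hP)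
  obtain ⟨q, hq, hqS⟩ := SetLike.exists_of_lt (normalizerCondition_of_isNilpotent S' hS')
  set n : G := ((q : D) : G)
  have hconj : ∀ x ∈ TP C, n * x * n⁻¹ ∈ TP C := fun x hx => by
    have h := (Subgroup.mem_normalizer_iff.1 hq ⟨⟨x, TP_le_cent C hx⟩, hP (Subgroup.mem_subgroupOf.2 hx)⟩).1
      (Subgroup.mem_subgroupOf.2 (Subgroup.mem_subgroupOf.2 hx))
    exact Subgroup.mem_subgroupOf.1 (Subgroup.mem_subgroupOf.1 h)
  have hz : n * el 81 = el 81 * n := Subgroup.mem_centralizer_singleton_iff.1 (q : D).2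
  obtain ⟨k, hk⟩ := P.isPGroup' q
  have hnk : n ^ 3 ^ k = 1 := congrArg (fun y : (P : Subgroup D) => ((y : D) : G)) hk
  -- it centralises the plane
  obtain ⟨hnM, hcase⟩ := TP_norm C hO hz hconj
  have h9 : n * el 9 * n⁻¹ = el 9 := by
    rcases (mem_nm C).1 hnM with h | h
    · exact h
    · exfalso
      have h2 : ∀ m : ℕ, n ^ (2 * m + 1) * el 9 * (n ^ (2 * m + 1))⁻¹ = (el 9)⁻¹ := by
        intro m
        induction m with
        | zero => rw [mul_zero, zero_add, pow_one, h]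
        | succ m ih =>
          calc n ^ (2 * (m + 1) + 1) * el 9 * (n ^ (2 * (m + 1) + 1))⁻¹
              = n * (n * (n ^ (2 * m + 1) * el 9 * (n ^ (2 * m + 1))⁻¹) * n⁻¹) * n⁻¹ := by
                rw [show 2 * (m + 1) + 1 = 1 + (1 + (2 * m + 1)) by omega, pow_add, pow_add n 1 (2 * m + 1), pow_one]
                group
            _ = _ := by rw [ih, ← conj_inv, h, inv_inv, h]
      obtain ⟨m, hm⟩ : ∃ m, 3 ^ k = 2 * m + 1 := (Odd.pow (by decide : Odd 3))
      have e := h2 m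
      rw [← hm, hnk, one_mul, inv_one, mul_one] at e
      have h93 : el 9 ^ 3 = 1 := by rw [← C.order_nine, pow_orderOf_eq_one]
      rw [pow_three, eq_inv_iff_mul_eq_one.1 e, mul_one] at h93
      exact C.el_nine_ne h93
  obtain ⟨i, hi, hie⟩ := exists_index C h9
  have hie' : el i = n := hie
  obtain ⟨h12, hplane⟩ := chk_cent_z i hi ((C.comm_iff hi (by norm_num)).1 (by rw [hie']; exact hz))
  obtain ⟨v, hv, hve⟩ := hconj (el 27) ⟨9, chk_pl_vi.2.2.2, by rw [chk_pl_vi.2.1]⟩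
  rw [← hie', C.conj hi (by norm_num)] at hve
  obtain ⟨-, hmem⟩ := hplane ⟨v, hv, C.inj _ (chk_j.1 v (pl_ok.1 v hv).1) _ (cj_lt hi (by norm_num)) hve⟩
  have hc : el (c3 i) = n ^ 3 := by
    rw [← hie', pow_three', C.mul i hi i hi, C.mul _ (T_lt hi hi) i hi]
    rfl
  have hc3 : c3 i < 648 := T_lt (T_lt hi hi) hi
  have h12' : (n ^ 3) ^ 4 = 1 := by
    rw [← hc, show (4 : ℕ) = 2 + 2 by norm_num, pow_add, pow_two, C.mul _ hc3 _ hc3,
      C.mul _ (T_lt hc3 hc3) _ (T_lt hc3 hc3), h12, C.el_zero]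
  have hn3 : n ^ 3 = 1 := by
    rw [← orderOf_eq_one_iff]
    refine Nat.eq_one_of_dvd_coprimes (Nat.Coprime.pow_right k (by norm_num : Nat.Coprime 4 3))
      (orderOf_dvd_of_pow_eq_one h12') (orderOf_dvd_of_pow_eq_one ?_)
    rw [← pow_mul, mul_comm, pow_mul, hnk, one_pow]
  obtain ⟨w, hw, hwe⟩ := hmem (cube_eq_one C hi (by rw [hie']; exact hn3))
  exact hqS (Subgroup.mem_subgroupOf.2 (Subgroup.mem_subgroupOf.2 ⟨w, hw, by rw [hwe, hie']⟩))

/-- The centraliser of the central involution normalises the line. -/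
theorem cent_z_le : Subgroup.centralizer ({el 81} : Set G) ≤ nm el := by
  classical
  haveI : Fact (Nat.Prime 3) := ⟨Nat.prime_three⟩
  set D := Subgroup.centralizer ({el 81} : Set G) with hD
  obtain ⟨P, hP⟩ := sylow_cent C hO
  have hmem : ∀ x : D, x ∈ (P : Subgroup D) ↔ (x : G) ∈ TP C := fun x => by rw [hP, Subgroup.mem_subgroupOf]
  have hPc : Nat.card (P : Subgroup D) = 3 ^ 2 := by
    rw [hP, Nat.card_congr (Subgroup.subgroupOfEquivOfLe (TP_le_cent C)).toEquiv, TP_card C]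
  have hcomm : IsMulCommutative (P : Subgroup D) := ⟨⟨fun x y => Subtype.ext (Subtype.ext
    (C.VJ_comm (TP_le_VJ C ((hmem _).1 x.2)) (TP_le_VJ C ((hmem _).1 y.2))))⟩⟩
  have hexp : ∀ x : (P : Subgroup D), x ^ 3 = 1 := fun x => Subtype.ext (Subtype.ext
    (C.VJ_cube (TP_le_VJ C ((hmem _).1 x.2))))
  have hnc : ¬ IsCyclic (P : Subgroup D) := fun hc => by
    obtain ⟨g, hg⟩ := hc.exists_generator
    have := orderOf_eq_card_of_forall_mem_zpowers hg
    rw [hPc] at this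
    have h2 := this ▸ orderOf_dvd_of_pow_eq_one (hexp g)
    norm_num at h2
  -- normaliser
  have hN : ∀ g ∈ Subgroup.normalizer ((P : Subgroup D) : Set D), (g : G) ∈ nm el ∧
      ((∀ x ∈ (P : Subgroup D), g * x * g⁻¹ = x) ∨ ∀ x ∈ (P : Subgroup D), g * x * g⁻¹ = x⁻¹) := by
    intro g hg
    obtain ⟨hM, hcase⟩ := TP_norm C hO (Subgroup.mem_centralizer_singleton_iff.1 g.2) fun x hx =>
      (hmem _).1 ((Subgroup.mem_normalizer_iff.1 hg ⟨x, TP_le_cent C hx⟩).1 ((hmem _).2 hx))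
    exact ⟨hM, hcase.imp (fun h x hx => Subtype.ext (h _ ((hmem x).1 hx)))
      fun h x hx => Subtype.ext (h _ ((hmem x).1 hx))⟩
  obtain ⟨n, hz, -, hninv⟩ := exists_inverter C hO
  let n' : D := ⟨n, Subgroup.mem_centralizer_singleton_iff.2 hz⟩
  have hn'inv : ∀ x ∈ (P : Subgroup D), n' * x * n'⁻¹ = x⁻¹ := fun x hx =>
    Subtype.ext (hninv _ ((hmem x).1 hx))
  -- the quotient by the core
  set O := Cfsg.pPrimeCore 3 D with hO'
  let f := QuotientGroup.mk' O
  have hf : Function.Surjective f := QuotientGroup.mk'_surjective O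
  have hkO : (Nat.card f.ker).Coprime 3 := by
    rw [QuotientGroup.ker_mk']; exact FittingCores.pPrimeCore_coprime 3
  haveI : Fintype (D ⧸ O) := Fintype.ofFinite _
  let P' : Sylow 3 (D ⧸ O) := P.mapSurjective hf
  have hP' : (P' : Subgroup (D ⧸ O)) = (P : Subgroup D).map f := rfl
  have hinvert : SmithTyrer.Inverted P' (f n') := by
    refine ⟨by norm_num, ⟨⟨?_⟩⟩, ?_, ?_, ?_⟩
    · rintro ⟨-, a, ha, rfl⟩ ⟨-, b, hb, rfl⟩
      refine Subtype.ext (show f a * f b = f b * f a from ?_)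
      rw [← map_mul, ← map_mul, show a * b = b * a from congrArg Subtype.val (hcomm.is_comm.comm ⟨a, ha⟩ ⟨b, hb⟩)]
    · refine Subgroup.mem_normalizer_fintype ?_
      rintro _ ⟨a, ha, rfl⟩
      refine ⟨a⁻¹, inv_mem ha, ?_⟩
      rw [← map_inv, ← map_mul, ← map_mul, hn'inv a ha]
    · rintro _ ⟨a, ha, rfl⟩
      rw [← map_inv, ← map_inv, ← map_mul, ← map_mul, hn'inv a ha]
    · intro y hy
      rw [hP', ← PConstr.map_normalizer_eq f hf hkO P.isPGroup'] at hy
      obtain ⟨g, hg, rfl⟩ := hy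
      rcases (hN g hg).2 with e | e
      · left
        rintro _ ⟨a, ha, rfl⟩
        rw [← map_inv, ← map_mul, ← map_mul, e a ha]
      · right
        rintro _ ⟨a, ha, rfl⟩
        rw [← map_inv, ← map_inv, ← map_mul, ← map_mul, e a ha]
  have hinj : Function.Injective (f.comp (P : Subgroup D).subtype) := by
    rw [injective_iff_map_eq_one]
    intro a ha
    exact Subtype.ext (PBasic.eq_one_of_isPGroup_of_coprime P.isPGroup' a.2
      (Nat.Coprime.coprime_dvd_left (Subgroup.orderOf_dvd_natCard f.ker ha) hkO))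
  have hnc' : ¬ IsCyclic (P' : Subgroup (D ⧸ O)) := fun hcyc => hnc (isCyclic_of_injective
    ((f.comp (P : Subgroup D).subtype).codRestrict (P' : Subgroup (D ⧸ O)) fun a => Subgroup.mem_map_of_mem f a.2)
    fun a b e => hinj (congrArg Subtype.val e))
  have hnorm := A9Three.sylow_normal_of_pLength_one
    (SmithTyrer.pLength_one hinvert hnc' (PBasic.pPrimeCore_quotient_pPrimeCore 3 D))
    (PBasic.pPrimeCore_quotient_pPrimeCore 3 D) P'
  -- the core
  set K := O.map D.subtype with hK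
  have hKle : K ≤ nm el := by
    have hA : TP C ≤ Subgroup.normalizer (K : Set G) := fun x hx => by
      refine Subgroup.mem_normalizer_fintype ?_
      rintro _ ⟨o, ho, rfl⟩
      exact ⟨_, Subgroup.Normal.conj_mem inferInstance o ho ⟨x, TP_le_cent C hx⟩, rfl⟩
    haveI : IsMulCommutative (TP C) :=
      ⟨⟨fun x y => Subtype.ext (C.VJ_comm (TP_le_VJ C x.2) (TP_le_VJ C y.2))⟩⟩
    have hncT : ¬ IsCyclic (TP C) := fun hc => hnc (by
      rw [hP]
      exact (MulEquiv.isCyclic (Subgroup.subgroupOfEquivOfLe (TP_le_cent C))).2 hc)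
    have hcop : (Nat.card (TP C)).Coprime (Nat.card K) := by
      rw [TP_card C, hK, Subgroup.card_map_of_injective D.subtype_injective]
      exact Nat.Coprime.pow_left 2 (FittingCores.pPrimeCore_coprime 3).symm
    rw [← CoprimeAct.generated_by_centralizers hncT hA hcop]
    refine iSup₂_le fun t ht => inf_le_right.trans ?_
    exact cent_three C hO (VJ_le_nm C hO (TP_le_VJ C ht.1)) (C.VJ_cube (TP_le_VJ C ht.1)) ht.2
  intro d hd
  have hdn : f ⟨d, hd⟩ ∈ Subgroup.normalizer ((P' : Subgroup (D ⧸ O)) : Set (D ⧸ O)) := by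
    rw [Subgroup.normalizer_eq_top_iff.2 hnorm]
    exact Subgroup.mem_top _
  rw [hP', ← PConstr.map_normalizer_eq f hf hkO P.isPGroup'] at hdn
  obtain ⟨x, hx, hxe⟩ := hdn
  have ho : x⁻¹ * ⟨d, hd⟩ ∈ O := QuotientGroup.eq.1 hxe
  have := mul_mem (hN x hx).1 (hKle ⟨_, ho, rfl⟩)
  simpa using this

end Cfsg.Agent.S3342Two
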