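import Cfsg.Agent.Lib.S3342Two.Main

/-!
S3342: the four orbit types give the two alternatives.
-/

set_option autoImplicit false
set_option maxRecDepth 20000
set_option synthInstance.maxSize 10000
set_option linter.style.haveILetI false
set_option linter.unusedSectionVars false

namespace Cfsg.Agent.S3342Two

open Cfsg.Agent.Hayden Cfsg.Agent.Hayden.Cfg Cfsg.Agent.HeisSLThree

/-- The two alternatives, given what the two large orbits give. -/
theorem alternatives {G : Type*} [Group G] [Finite G]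
    (a : G) (ha : orderOf a = 3) (C : Subgroup G) (hC : C = Subgroup.centralizer ({a} : Set G))
    (hR : Cfsg.IsExtraspecial 3 (Cfsg.pCore 3 C)) (hRcard : Nat.card (Cfsg.pCore 3 C) = 27)
    (hRexp : ∀ r ∈ Cfsg.pCore 3 C, r ^ 3 = 1)
    (e : C ⧸ Cfsg.pCore 3 C ≃* SL₂)
    (J : Subgroup G) (hJC : J ≤ C) (hJcomm : IsMulCommutative J) (hJexp : ∀ j ∈ J, j ^ 3 = 1)
    (hJcard : Nat.card J = 27)
    (hJsig : ∀ K : Subgroup G, (Nat.card K).Coprime 3 →
      (∀ j ∈ J, K.map (MulAut.conj j).toMonoidHom = K) → K = ⊥)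
    {P Q : Prop}
    (h4 : ∀ (el : ℕ → G) (D : Cfg el), (∀ v < 27, D.Orb v ↔ v ∈ O4) → P)
    (h8 : ∀ (el : ℕ → G) (D : Cfg el), (∀ v < 27, D.Orb v ↔ v ∈ O8) → Q) :
    ((∀ g : G, g * a * g⁻¹ ≠ a⁻¹) → (∃ N : Subgroup G, N.Normal ∧ N.index = 3) ∨ P) ∧
    ((∃ g : G, g * a * g⁻¹ = a⁻¹) → Subgroup.normalizer (Subgroup.zpowers a : Set G) = ⊤ ∨ Q) := by
  obtain ⟨el₀, C₀, ha₀⟩ := exists_cfg a ha C hC hR hRcard hRexp e J hJC hJcomm hJexp hJcard hJsig
  obtain ⟨el, D, h9, hcases⟩ := C₀.exists_norm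
  rw [← h9] at ha₀
  have h18 : el (vi 2) = (el 9)⁻¹ := vi_two D
  -- conjugacy with the inverse
  have hinv : (∃ g : G, g * a * g⁻¹ = a⁻¹) ↔ D.Orb 2 := by
    refine exists_congr fun g => ?_
    rw [h18]
    rcases ha₀ with h | h <;> rw [h]
    rw [← conj_inv, inv_inj, eq_comm (a := g * a * g⁻¹)]
  have hnorm : nm el = Subgroup.normalizer (Subgroup.zpowers a : Set G) := by
    rw [nm]
    rcases ha₀ with h | h <;> rw [h]
    rw [Subgroup.zpowers_inv]
  rcases hcases with hO | hO | hO | hO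
  · exact ⟨fun _ => Or.inl (D.exists_index_three fun v hv h => (hO v hv).1 h),
      fun h => absurd ((hO 2 (by norm_num)).1 (hinv.1 h)) (by norm_num)⟩
  · refine ⟨fun h => absurd (hinv.2 ((hO 2 (by norm_num)).2 (Or.inr rfl))) (not_exists.2 h), fun _ => Or.inl ?_⟩
    rw [← hnorm]
    exact nm_eq_top D hO
  · exact ⟨fun _ => Or.inr (h4 el D hO),
      fun h => absurd ((hO 2 (by norm_num)).1 (hinv.1 h)) (by decide)⟩
  · exact ⟨fun h => absurd (hinv.2 ((hO 2 (by norm_num)).2 (by decide))) (not_exists.2 h),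
      fun _ => Or.inr (h8 el D hO)⟩

end Cfsg.Agent.S3342Two
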