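import Cfsg.Agent.Lib.S3342Two.Real
import Cfsg.Agent.Lib.S3342Id.LocalCent
import Cfsg.Agent.Lib.A9Three.CentB
import Cfsg.Agent.Lib.SmithTyrer.Main

/-!
S3342, the case of an orbit of two points: the centralisers of the elements of the abelian subgroup normalise
the line.
-/

set_option autoImplicit false
set_option maxRecDepth 20000
set_option synthInstance.maxSize 10000
set_option linter.style.haveILetI false
set_option linter.unusedSectionVars false

namespace Cfsg.Agent.S3342Two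

open Cfsg.Agent.Hayden Cfsg.Agent.Hayden.Cfg Cfsg.Agent.S3342Id.LocalCent

universe u

variable {G : Type u} [Group G] [Finite G] {el : ℕ → G} (C : Cfg el)
include C

theorem not_orb (hO : ∀ v < 27, C.Orb v ↔ v = 1 ∨ v = 2) {v : ℕ} (hv : v ∈ [3, 9, 10, 11]) :
    v < 27 ∧ v ≠ 0 ∧ ¬ C.Orb v ∧ ¬ C.Orb (vneg v) := by
  obtain ⟨h1, h2, h3, h4⟩ :=
    (show ∀ v ∈ [3, 9, 10, 11], v < 27 ∧ v ≠ 0 ∧ ¬ (v = 1 ∨ v = 2) ∧ ¬ (vneg v = 1 ∨ vneg v = 2) by decide +kernel)
      v hv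
  exact ⟨h1, h2, fun h => h3 ((hO v h1).1 h), fun h => h4 ((hO _ (vadd_lt _ _)).1 h)⟩

/-- The three points with a line of invariants. -/
theorem cent_line (hO : ∀ v < 27, C.Orb v ↔ v = 1 ∨ v = 2) {v : ℕ} (hv : v ∈ [9, 10, 11]) :
    cg el v ≤ nm el := by
  obtain ⟨hv27, hv0, ho, hon⟩ := not_orb C hO (List.mem_cons_of_mem 3 hv)
  obtain ⟨hi, hadd, hline, h30, h31, hmove⟩ := line_ok
  have hL : ∀ {D : Subgroup G}, D ≤ cg el v → ∀ g ∈ D, ∀ A, C.Real A →
      (∀ u < 27, g * el (vi u) * g⁻¹ = el (vi (app A u))) → A = (1, 3, 9) ∨ A = (1, 6, 9) :=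
    fun hD g hg A hA hAa => chk_stab.1 A (mem_L12 C hO hA) v hv (fix_of_le C hv27 hD hg hAa)
  obtain ⟨K, Pt⟩ := exists_part C hv27 hv0 ho hon (cg el v) (C.VJ_le_cg hv27) le_rfl
    (chi (0, 0, 1) (1, 0, 0)) (chi_add hadd) (by
      intro g hg A hA hAa u hu
      have hm : A ∈ [((1 : ℕ), (3 : ℕ), (9 : ℕ)), (1, 6, 9)] := by
        rcases hL le_rfl g hg A hA hAa with e | e <;> simp [e]
      simp only [invB, List.all_eq_true, List.mem_range, Bool.and_eq_true, decide_eq_true_eq] at hi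
      rw [chi, chi, (hi A hm u hu).1, (hi A hm u hu).2])
  have h3 : chi (0, 0, 1) (1, 0, 0) 3 = 1 := chi_eq_one.2 ⟨h30, h31⟩
  refine le_trans (Pt.le_norm_of_line (by norm_num) (by norm_num) h3 (fun u hu e => hline u hu (chi_eq_one.1 e))
    fun g hg hgc => ?_) (norm_le_nm C hO)
  rw [← C.cent_pair hv27 (by norm_num : 3 < 27) hv0 ho hon fun A hA e1 e2 u hu => ?_]
  · exact ⟨hg, Subgroup.mem_centralizer_singleton_iff.2 (hgc 3 (by norm_num) h3).eq⟩
  · rcases chk_stab.1 A (mem_L12 C hO hA) v hv e1 with rfl | rfl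
    · exact chk_basis u hu
    · exact absurd e2 hmove

/-- The point with a plane of invariants. -/
theorem cent_plane (hO : ∀ v < 27, C.Orb v ↔ v = 1 ∨ v = 2) : cg el 3 ≤ nm el := by
  classical
  haveI : Fact (Nat.Prime 3) := ⟨Nat.prime_three⟩
  obtain ⟨hv, hv0, ho, hon⟩ := not_orb C hO (v := 3) (by simp)
  obtain ⟨hi, hadd, hgen, hact, hk1, hk9⟩ := plane_ok
  have hL : ∀ g ∈ cg el 3, ∀ A, C.Real A →
      (∀ u < 27, g * el (vi u) * g⁻¹ = el (vi (app A u))) → A = (1, 3, 9) ∨ A = (2, 3, 18) :=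
    fun g hg A hA hAa => chk_stab.2 A (mem_L12 C hO hA) (fix_of_le C hv le_rfl hg hAa)
  obtain ⟨K, Pt⟩ := exists_part C hv hv0 ho hon (cg el 3) (C.VJ_le_cg hv) le_rfl
    (chi (0, 1, 0) (0, 0, 0)) (chi_add hadd) (by
      intro g hg A hA hAa u hu
      have hm : A ∈ [((1 : ℕ), (3 : ℕ), (9 : ℕ)), (2, 3, 18)] := by
        rcases hL g hg A hA hAa with e | e <;> simp [e]
      simp only [invB, List.all_eq_true, List.mem_range, Bool.and_eq_true, decide_eq_true_eq] at hi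
      rw [chi, chi, (hi A hm u hu).1, (hi A hm u hu).2])
  set χ := chi (0, 1, 0) (0, 0, 0) with hχdef
  have hfn : ∀ {t : ℕ}, χ t = 1 ↔ fn (0, 1, 0) t = 0 := fun {t} => by
    rw [hχdef, chi_eq_one]
    exact and_iff_left (by simp [fn])
  have hC : ∀ g ∈ cg el 3, (∀ t < 27, χ t = 1 → Commute g (el (vi t))) → g ∈ C.VJ := by
    refine cent_of_gen C hgen fun z hz => ?_
    simp only [List.mem_cons, List.not_mem_nil, or_false] at hz
    rcases hz with rfl | rfl | rfl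
    · exact ⟨by norm_num, le_cg_zero C _⟩
    · exact ⟨by norm_num, le_rfl⟩
    · exact ⟨by norm_num, le_cg_vadd C (by norm_num : 3 < 27) (by norm_num : 3 < 27) le_rfl le_rfl⟩
  obtain ⟨Q, hQ⟩ := Pt.syl
  have hQ' : ∀ x : K, x ∈ (Q : Subgroup K) → ∃ t < 27, χ t = 1 ∧ el (vi t) = x :=
    fun x hx => Pt.mem_meet ((hQ x).1 hx) x.2
  -- normalising elements act through the stabiliser
  have hNQ : ∀ k ∈ Subgroup.normalizer ((Q : Subgroup K) : Set K),
      (∀ x ∈ (Q : Subgroup K), k * x * k⁻¹ = x) ∨ ∀ x ∈ (Q : Subgroup K), k * x * k⁻¹ = x⁻¹ := by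
    intro k hk
    have hkJ : (k : G) ∈ Subgroup.normalizer (C.VJ : Set G) := by
      refine Subgroup.mem_normalizer_fintype fun z hz => hC _ (mul_mem (mul_mem (Pt.le k.2) (Pt.jle hz))
        (inv_mem (Pt.le k.2))) fun t ht ht1 => ?_
      have hx := (Subgroup.mem_normalizer_iff.1 (inv_mem hk) ⟨el (vi t), (Pt.meet t ht).2 ht1⟩).1
        ((hQ _).2 ⟨t, ht, rfl⟩)
      have h2 := (Commute.conj_iff (k : G)).2 (C.VJ_comm hz ((hQ _).1 hx))
      push_cast at h2
      rwa [show (k : G) * ((k : G)⁻¹ * el (vi t) * (k : G)⁻¹⁻¹) * (k : G)⁻¹ = el (vi t) by group] at h2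
    obtain ⟨A, hA, hAa⟩ := C.act_norm hkJ
    rcases hL _ (Pt.le k.2) A hA hAa with rfl | rfl
    · left
      intro x hx
      obtain ⟨t, ht, ht1, hte⟩ := hQ' x hx
      refine Subtype.ext ?_
      push_cast
      rw [← hte, hAa t ht, (hact t ht (hfn.1 ht1)).2]
    · right
      intro x hx
      obtain ⟨t, ht, ht1, hte⟩ := hQ' x hx
      refine Subtype.ext ?_
      push_cast
      rw [← hte, hAa t ht, (hact t ht (hfn.1 ht1)).1, C.orb_inv ht]
  -- an inverting element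
  obtain ⟨g, hg⟩ := Real.exists_act C (real_L12 C hO (B := (2, 3, 18)) (by decide))
  have hgD : g ∈ cg el 3 := by
    refine Subgroup.mem_centralizer_singleton_iff.2 (mul_inv_eq_iff_eq_mul.1 ?_)
    rw [hg 3 (by norm_num), show app (2, 3, 18) 3 = 3 by decide +kernel]
  obtain ⟨u₀, hu₀, hn⟩ := Pt.cover g hgD
  set n : K := ⟨g * el (vi u₀), hn⟩ with hndef
  have hnact : ∀ u < 27, (n : G) * el (vi u) * (n : G)⁻¹ = el (vi (app (2, 3, 18) u)) := fun u hu => by
    rw [← hg u hu, hndef]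
    calc g * el (vi u₀) * el (vi u) * (g * el (vi u₀))⁻¹
        = g * (el (vi u₀) * el (vi u)) * (el (vi u₀))⁻¹ * g⁻¹ := by group
      _ = _ := by rw [C.VJ_comm ⟨u₀, hu₀, rfl⟩ ⟨u, hu, rfl⟩]; group
  have hninv : ∀ x ∈ (Q : Subgroup K), n * x * n⁻¹ = x⁻¹ := fun x hx => by
    obtain ⟨t, ht, ht1, hte⟩ := hQ' x hx
    refine Subtype.ext ?_
    push_cast
    rw [← hte, hnact t ht, (hact t ht (hfn.1 ht1)).1, C.orb_inv ht]
  have hcomm : IsMulCommutative (Q : Subgroup K) := ⟨⟨fun x y => Subtype.ext (Subtype.ext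
    (C.VJ_comm ((hQ _).1 x.2) ((hQ _).1 y.2)))⟩⟩
  have hI : SmithTyrer.Inverted Q n := by
    refine ⟨by norm_num, hcomm, Subgroup.mem_normalizer_fintype fun x hx => ?_, hninv, hNQ⟩
    show n * x * n⁻¹ ∈ (Q : Subgroup K)
    rw [hninv x hx]
    exact inv_mem hx
  have hnc : ¬ IsCyclic (Q : Subgroup K) := by
    intro hc
    obtain ⟨⟨x, hx⟩, hgen'⟩ := hc.exists_generator
    have mk : ∀ {t : ℕ} (ht : t < 27) (h1 : fn (0, 1, 0) t = 0),
        (⟨el (vi t), (Pt.meet t ht).2 (hfn.2 h1)⟩ : K) ∈ (Q : Subgroup K) :=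
      fun {t} ht _ => (hQ _).2 ⟨t, ht, rfl⟩
    obtain ⟨a, ha⟩ := Subgroup.mem_zpowers_iff.1 (hgen' ⟨_, mk (t := 1) (by norm_num) hk1⟩)
    obtain ⟨b, hb⟩ := Subgroup.mem_zpowers_iff.1 (hgen' ⟨_, mk (t := 9) (by norm_num) hk9⟩)
    have ha' := congrArg (fun y : (Q : Subgroup K) => ((y : K) : G)) ha
    have hb' := congrArg (fun y : (Q : Subgroup K) => ((y : K) : G)) hb
    simp only [Subgroup.coe_zpow] at ha' hb'
    have hx3 : (x : G) ^ (3 : ℕ) = 1 := C.VJ_cube ((hQ x).1 hx)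
    have key : ∀ c : ℤ, ∃ j < 3, (x : G) ^ c = (x : G) ^ (j : ℕ) := fun c => by
      refine ⟨(c % 3).toNat, by omega, ?_⟩
      rw [← zpow_natCast, Int.toNat_of_nonneg (Int.emod_nonneg _ (by norm_num)),
        zpow_eq_zpow_emod' c hx3]
      rfl
    obtain ⟨t, ht, -, hte⟩ := hQ' x hx
    obtain ⟨i, hi3, hie⟩ := key a
    obtain ⟨j, hj3, hje⟩ := key b
    rw [hie, ← hte, ← C.el_vsm hi3 ht] at ha'
    rw [hje, ← hte, ← C.el_vsm hj3 ht] at hb'
    exact (show ∀ t < 27, ∀ i < 3, ∀ j < 3, vsm i t = 1 → vsm j t = 9 → False by decide +kernel) t ht i hi3 j hj3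
      (C.vi_inj (C.vsm_lt ht) (by norm_num) ha') (C.vi_inj (C.vsm_lt ht) (by norm_num) hb')
  haveI := Fintype.ofFinite K
  have hnorm := A9Three.sylow_normal_of_pLength_one (SmithTyrer.pLength_one hI hnc Pt.core) Pt.core Q
  refine le_trans (Pt.le_norm_of_normal hC fun k hk t ht ht1 => ?_) (norm_le_nm C hO)
  obtain ⟨t', ht', ht1', he⟩ := hQ' _ (hnorm.conj_mem ⟨el (vi t), (Pt.meet t ht).2 ht1⟩
    ((hQ _).2 ⟨t, ht, rfl⟩) ⟨k, hk⟩)
  exact ⟨t', ht', ht1', by rw [he]; rfl⟩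

/-- The centraliser of every non-trivial element of the abelian subgroup normalises the line. -/
theorem cent_le_nm_of_point (hO : ∀ v < 27, C.Orb v ↔ v = 1 ∨ v = 2) {v : ℕ} (hv : v < 27) (h0 : v ≠ 0) :
    cg el v ≤ nm el := by
  rcases chk_orbits v hv with h | ⟨B, hB, hBv⟩
  · simp only [List.mem_cons, List.not_mem_nil, or_false] at h
    rcases h with rfl | rfl | rfl
    · exact absurd rfl h0
    · refine le_trans (le_of_eq ?_) (cent_le_nm C)
      rw [cg, chk_vi.2.2.1]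
    · refine le_trans (fun g hg => Subgroup.mem_centralizer_singleton_iff.2 ?_) (cent_le_nm C)
      have h := Subgroup.mem_centralizer_singleton_iff.1 hg
      rw [vi_two C] at h
      simpa using (show Commute g (el 9)⁻¹ from h).inv_right.eq
  · obtain ⟨n, hn⟩ := Real.exists_act C (real_L12 C hO hB)
    have hnm : n ∈ nm el :=
      norm_le_nm C hO (C.mem_norm fun u hu => ⟨_, app_lt _ _, hn u hu⟩)
    have hle : cg el (app B v) ≤ nm el := by
      simp only [List.mem_cons, List.not_mem_nil, or_false] at hBv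
      rcases hBv with e | e | e | e <;> rw [e]
      · exact cent_plane C hO
      all_goals exact cent_line C hO (by simp)
    intro g hg
    have hc : n * g * n⁻¹ ∈ cg el (app B v) := by
      refine Subgroup.mem_centralizer_singleton_iff.2 ?_
      rw [← hn v hv, M12Cent.conj_comm_iff]
      exact Subgroup.mem_centralizer_singleton_iff.1 hg
    simpa [mul_assoc] using mul_mem (mul_mem (inv_mem hnm) (hle hc)) hnm

end Cfsg.Agent.S3342Two
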