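import Cfsg.Agent.Lib.S3342Two.CentV

/-!
S3342, the case of an orbit of two points: the normaliser of the line controls the elements of order three.
-/

set_option autoImplicit false
set_option maxRecDepth 20000
set_option synthInstance.maxSize 10000
set_option linter.style.haveILetI false
set_option linter.unusedSectionVars false

namespace Cfsg.Agent.S3342Two

open Cfsg.Agent.Hayden Cfsg.Agent.Hayden.Cfg

variable {G : Type*} [Group G] [Finite G] {el : ℕ → G} (C : Cfg el)
include C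

theorem cube_eq_one {i : ℕ} (hi : i < 648) (h : el i ^ 3 = 1) : c3 i = 0 := by
  refine C.inj _ (T_lt (T_lt hi hi) hi) _ (by norm_num) ?_
  rw [← C.mul _ (T_lt hi hi) i hi, ← C.mul i hi i hi, C.el_zero, ← pow_three', h]

/-- An element of order three of the normaliser commutes with the distinguished element. -/
theorem comm_of_cube {f : G} (hf : f ∈ nm el) (h3 : f ^ 3 = 1) : f * el 9 * f⁻¹ = el 9 := by
  rcases (mem_nm C).1 hf with h | h
  · exact h
  · exfalso
    have e2 : f * (el 9)⁻¹ * f⁻¹ = el 9 := by rw [← conj_inv, h, inv_inv]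
    have e3 : f ^ 3 * el 9 * (f ^ 3)⁻¹ = (el 9)⁻¹ := by
      calc f ^ 3 * el 9 * (f ^ 3)⁻¹ = f * (f * (f * el 9 * f⁻¹) * f⁻¹) * f⁻¹ := by rw [pow_three]; group
        _ = _ := by rw [h, e2, h]
    rw [h3, one_mul, inv_one, mul_one] at e3
    have h9 : el 9 ^ 3 = 1 := by rw [← C.order_nine, pow_orderOf_eq_one]
    have hsq : el 9 * el 9 = 1 := eq_inv_iff_mul_eq_one.1 e3
    rw [pow_three, hsq, mul_one] at h9
    exact C.el_nine_ne h9

variable (hO : ∀ v < 27, C.Orb v ↔ v = 1 ∨ v = 2)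
include hO

theorem cent_le_nm_of_S81 {i : ℕ} (hi : i < 81) (h0 : i ≠ 0) (h3 : c3 i = 0) :
    Subgroup.centralizer ({el i} : Set G) ≤ nm el := by
  have hpt : ∀ v < 27, i = vi v → Subgroup.centralizer ({el i} : Set G) ≤ nm el := fun v hv e => by
    rw [e]
    exact cent_le_nm_of_point C hO hv (fun hv0 => h0 (by rw [e, hv0, chk_vi.2.1]))
  rcases chk_three_S i hi h3 with h | h
  · obtain ⟨v, hv, e⟩ := (chk_j_mem i hi).1 h
    exact hpt v hv e.symm
  · rcases chk_R_class i h with rfl | rfl | rfl | ⟨c, hc, hce⟩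
    · exact absurd rfl h0
    · exact hpt 1 (by norm_num) chk_vi.2.2.1.symm
    · exact hpt 2 (by norm_num) (by decide +kernel)
    · intro g hg
      have hc3 : el c * g * (el c)⁻¹ ∈ cg el 3 := by
        refine Subgroup.mem_centralizer_singleton_iff.2 ?_
        rw [chk_vi.2.2.2.1, ← hce, ← C.conj hc (by omega), M12Cent.conj_comm_iff]
        exact Subgroup.mem_centralizer_singleton_iff.1 hg
      have := mul_mem (mul_mem (inv_mem (el_mem_nm C hc))
        (cent_le_nm_of_point C hO (v := 3) (by norm_num) (by norm_num) hc3)) (el_mem_nm C hc)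
      simpa [mul_assoc] using this

/-- An element of order three of the normaliser is moved into the Sylow subgroup by it. -/
theorem exists_to_S81 {f : G} (hf : f ∈ nm el) (h3 : f ^ 3 = 1) (h1 : f ≠ 1) :
    ∃ c ∈ nm el, c * f * c⁻¹ ∈ C.S81 ∧ Subgroup.centralizer ({c * f * c⁻¹} : Set G) ≤ nm el := by
  obtain ⟨i, hi, rfl⟩ := exists_index C (comm_of_cube C hf h3)
  obtain ⟨c, hc, hcj⟩ := chk_conj81 i hi (cube_eq_one C hi h3)
  refine ⟨el c, el_mem_nm C hc, ?_⟩
  rw [C.conj hc hi]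
  refine ⟨⟨_, hcj, rfl⟩, cent_le_nm_of_S81 C hO hcj (fun h => h1 ?_) ?_⟩
  · have e := C.conj hc hi
    rw [h, C.el_zero, conj_eq_one_iff] at e
    exact e
  · refine cube_eq_one C (cj_lt hc hi) ?_
    rw [← C.conj hc hi, conj_pow, h3, mul_one, mul_inv_cancel]

/-- The centralisers of the elements of order three normalise the line. -/
theorem cent_three {f : G} (hf : f ∈ nm el) (h3 : f ^ 3 = 1) (h1 : f ≠ 1) :
    Subgroup.centralizer ({f} : Set G) ≤ nm el := by
  obtain ⟨c, hc, -, hle⟩ := exists_to_S81 C hO hf h3 h1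
  intro g hg
  have := mul_mem (mul_mem (inv_mem hc) (hle (x := c * g * c⁻¹) (Subgroup.mem_centralizer_singleton_iff.2
    (by rw [M12Cent.conj_comm_iff]; exact Subgroup.mem_centralizer_singleton_iff.1 hg)))) hc
  simpa [mul_assoc] using this

/-- A conjugate in the normaliser is reached inside it. -/
theorem mem_of_conj_three {f g : G} (hf : f ∈ nm el) (h3 : f ^ 3 = 1) (h1 : f ≠ 1)
    (hg : g * f * g⁻¹ ∈ nm el) : g ∈ nm el := by
  obtain ⟨c, hc, hx, hle⟩ := exists_to_S81 C hO hf h3 h1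
  obtain ⟨c', hc', hy, -⟩ := exists_to_S81 C hO hg (by rw [conj_pow, h3, mul_one, mul_inv_cancel])
    (fun e => h1 (conj_eq_one_iff.1 e))
  obtain ⟨h, -, hh, he⟩ := C.fusion_line (fun v hv hv' => (hO v hv).1 hv') ⊤ (Subgroup.mem_top _) hx
    (Subgroup.mem_top (c' * g * c⁻¹)) (by
      rw [show c' * g * c⁻¹ * (c * f * c⁻¹) * (c' * g * c⁻¹)⁻¹ = c' * (g * f * g⁻¹) * c'⁻¹ by group]
      exact hy)
  have hcent : h⁻¹ * (c' * g * c⁻¹) ∈ nm el := by
    refine hle (Subgroup.mem_centralizer_singleton_iff.2 (mul_inv_eq_iff_eq_mul.1 ?_))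
    calc h⁻¹ * (c' * g * c⁻¹) * (c * f * c⁻¹) * (h⁻¹ * (c' * g * c⁻¹))⁻¹
        = h⁻¹ * (c' * g * c⁻¹ * (c * f * c⁻¹) * (c' * g * c⁻¹)⁻¹) * h := by group
      _ = _ := by rw [← he]; group
  have := mul_mem (mul_mem (inv_mem hc') (mul_mem ((mem_nm C).2 hh) hcent)) hc
  simpa [mul_assoc] using this

end Cfsg.Agent.S3342Two
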