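import Cfsg.Agent.Lib.S3342Two.CentZ
import Mathlib.Combinatorics.Pigeonhole
import Mathlib.GroupTheory.FixedPointFree
import Mathlib.GroupTheory.GroupAction.Quotient
import Mathlib.GroupTheory.Perm.Cycle.Type

/-!
S3342, the case of an orbit of two points: the line is normal.
-/

set_option autoImplicit false
set_option maxRecDepth 20000
set_option synthInstance.maxSize 10000
set_option linter.style.haveILetI false
set_option linter.unusedSectionVars false

namespace Cfsg.Agent.S3342Two

open Cfsg.Agent.Hayden Cfsg.Agent.Hayden.Cfg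

variable {G : Type*} [Group G] [Finite G] {el : ℕ → G} (C : Cfg el)
include C

theorem el_c3 {i : ℕ} (hi : i < 648) : el (c3 i) = el i ^ 3 := by
  rw [pow_three', C.mul i hi i hi, C.mul _ (T_lt hi hi) i hi]
  rfl

theorem c3_lt {i : ℕ} (hi : i < 648) : c3 i < 648 := T_lt (T_lt hi hi) hi

/-- The normal Heisenberg subgroup of the centraliser. -/
def RS : Subgroup G :=
  M12Cent.ofClosed {g | ∃ i < 27, el i = g} ⟨0, by norm_num, C.el_zero⟩ (by
    rintro _ ⟨i, hi, rfl⟩ _ ⟨j, hj, rfl⟩
    exact ⟨T i j, (show ∀ i < 27, ∀ j < 27, T i j < 27 by decide +kernel) i hi j hj,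
      (C.mul i (by omega) j (by omega)).symm⟩)

theorem cube_of_c3 {i : ℕ} (hi : i < 648) (h : c3 i = 0) : el i ^ 3 = 1 := by
  rw [← el_c3 C hi, h, C.el_zero]

/-- The normaliser of the line normalises the Heisenberg subgroup. -/
theorem RS_conj {w : G} (hw : w ∈ nm el) {x : G} (hx : x ∈ RS C) : w * x * w⁻¹ ∈ RS C := by
  obtain ⟨i, hi, rfl⟩ := hx
  have hC : ∀ y : G, y * el 9 = el 9 * y → ∀ v ∈ nm el, (v * y * v⁻¹) * el 9 = el 9 * (v * y * v⁻¹) := by
    intro y hy v hv
    rcases (mem_nm C).1 hv with e | e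
    · have h := (Commute.conj_iff v).2 (show Commute y (el 9) from hy)
      rw [e] at h
      exact h.eq
    · have h := (Commute.conj_iff v).2 (show Commute y (el 9) from hy)
      rw [e] at h
      exact (Commute.inv_right_iff.1 h).eq
  obtain ⟨j, hj, hje⟩ := (C.mem _).1 (hC _ (C.el_comm (show i < 648 by omega)) w hw)
  refine ⟨j, ?_, hje⟩
  have hi3 : el i ^ 3 = 1 := cube_of_c3 C (by omega) (chk_R_char.1 i hi)
  have hj3 : c3 j = 0 := cube_eq_one C hj (by rw [hje, conj_pow, hi3, mul_one, mul_inv_cancel])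
  by_contra h27
  obtain ⟨k, hk, hne⟩ := chk_R_char.2.2.2 j hj (by omega) hj3
  obtain ⟨l, hl, hle⟩ := (C.mem _).1 (hC _ (C.el_comm hk) w⁻¹ (inv_mem hw))
  have hlk : el k = w * el l * w⁻¹ := by rw [hle]; group
  have hcl := chk_R_char.2.1 i hi l hl
  apply hne
  refine cube_eq_one C (T_lt hj (cj_lt hk hj)) ?_
  rw [← C.mul _ hj _ (cj_lt hk hj), ← C.conj hk hj, hje, hlk,
    show w * el i * w⁻¹ * (w * el l * w⁻¹ * (w * el i * w⁻¹) * (w * el l * w⁻¹)⁻¹) =
      w * (el i * (el l * el i * (el l)⁻¹)) * w⁻¹ by group,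
    C.conj hl (by omega), C.mul _ (by omega) _ (by omega), conj_pow,
    cube_of_c3 C (T_lt (by omega) (by omega)) (chk_R_char.2.2.1 i hi _ hcl), mul_one, mul_inv_cancel]

/-- An involution of the normaliser fixes a non-trivial element of the Heisenberg subgroup. -/
theorem exists_fixed {w : G} (hw : w ∈ nm el) (h2 : w * w = 1) : ∃ x ∈ RS C, x ≠ 1 ∧ w * x * w⁻¹ = x := by
  by_contra hcon
  push Not at hcon
  let φ : RS C →* RS C :=
    { toFun := fun x => ⟨w * x * w⁻¹, RS_conj C hw x.2⟩
      map_one' := Subtype.ext (by simp)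
      map_mul' := fun x y => Subtype.ext (by push_cast; group) }
  have hfpf : MonoidHom.FixedPointFree (φ : RS C → RS C) := fun x hx =>
    of_not_not fun hx1 => hcon x x.2 (fun h => hx1 (Subtype.ext h)) (congrArg Subtype.val hx)
  have hinv : Function.Involutive (φ : RS C → RS C) := fun x => Subtype.ext (by
    show w * (w * x * w⁻¹) * w⁻¹ = x
    rw [show w * (w * (x : G) * w⁻¹) * w⁻¹ = (w * w) * x * (w * w)⁻¹ by group, h2]
    simp)
  have h := congrArg Subtype.val
    (MonoidHom.FixedPointFree.commute_all_of_involutive hfpf hinv ⟨el 1, 1, by norm_num, rfl⟩ ⟨el 3, 3, by norm_num, rfl⟩).eq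
  exact chk_nonabelian ((C.comm_iff (by norm_num) (by norm_num)).1 h)

theorem el81_mem : el 81 ∈ nm el := el_mem_nm C (by norm_num)

variable (hO : ∀ v < 27, C.Orb v ↔ v = 1 ∨ v = 2)
include hO

/-- A conjugate of the involution in the normaliser is reached inside it. -/
theorem mem_of_conj_z {g : G} (h : g * el 81 * g⁻¹ ∈ nm el) : g ∈ nm el := by
  have hsq : g * el 81 * g⁻¹ * (g * el 81 * g⁻¹) = 1 := by
    rw [show g * el 81 * g⁻¹ * (g * el 81 * g⁻¹) = g * (el 81 * el 81) * g⁻¹ by group, C.z_sq]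
    group
  rcases (mem_nm C).1 h with hc | hinv
  · obtain ⟨i, hi, hie⟩ := exists_index C hc
    have h0 : i ≠ 0 := fun e => by
      rw [e, C.el_zero, eq_comm, conj_eq_one_iff] at hie
      have := C.inj 81 (by norm_num) 0 (by norm_num) (hie.trans C.el_zero.symm)
      norm_num at this
    rcases chk_invol i hi (C.inj _ (T_lt hi hi) _ (by norm_num) (by rw [← C.mul i hi i hi, hie, hsq, C.el_zero]))
      with e | ⟨c, hcl, hce⟩
    · exact absurd e h0
    · have : (el c)⁻¹ * g ∈ nm el := by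
        refine cent_z_le C hO (Subgroup.mem_centralizer_singleton_iff.2 (mul_inv_eq_iff_eq_mul.1 ?_))
        rw [show (el c)⁻¹ * g * el 81 * ((el c)⁻¹ * g)⁻¹ = (el c)⁻¹ * (g * el 81 * g⁻¹) * el c by group, ← hie,
          ← hce, ← C.conj hcl (by norm_num)]
        group
      simpa using mul_mem (el_mem_nm C hcl) this
  · obtain ⟨x, ⟨i, hi, rfl⟩, hx1, hfx⟩ := exists_fixed C h hsq
    have hy : g⁻¹ * el i * g ∈ nm el := by
      refine cent_z_le C hO (Subgroup.mem_centralizer_singleton_iff.2 ?_)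
      have h' := (Commute.conj_iff g⁻¹).2 (show Commute (g * el 81 * g⁻¹) (el i) from mul_inv_eq_iff_eq_mul.1 hfx)
      rw [inv_inv, show g⁻¹ * (g * el 81 * g⁻¹) * g = el 81 by group] at h'
      exact h'.symm.eq
    have := mem_of_conj_three C hO (el_mem_nm C (show i < 648 by omega))
      (cube_of_c3 C (by omega) (chk_R_char.1 i hi)) hx1 (g := g⁻¹) (by rwa [inv_inv])
    simpa using inv_mem this

/-- A conjugate of the involution fixes one coset only. -/
theorem coset_of_fix {h : G} {X : G ⧸ nm el} (hX : (h * el 81 * h⁻¹) • X = X) : (h : G ⧸ nm el) = X := by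
  induction X using QuotientGroup.induction_on with | _ k => ?_
  rw [MulAction.Quotient.smul_coe, QuotientGroup.eq, smul_eq_mul] at hX
  have hm : k⁻¹ * h * el 81 * (k⁻¹ * h)⁻¹ ∈ nm el := by
    have := inv_mem hX
    rwa [mul_inv_rev, inv_inv, ← mul_assoc, show k⁻¹ * (h * el 81 * h⁻¹) * k = k⁻¹ * h * el 81 * (k⁻¹ * h)⁻¹ by group]
      at this
  refine QuotientGroup.eq.2 ?_
  simpa using inv_mem (mem_of_conj_z C hO hm)

/-- The line is normal. -/
theorem nm_eq_top : nm el = ⊤ := by
  classical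
  by_contra hne
  haveI : Fact (Nat.Prime 2) := ⟨Nat.prime_two⟩
  obtain ⟨g₀, hg₀⟩ : ∃ g, g ∉ nm el := by
    by_contra h; push Not at h; exact hne ((Subgroup.eq_top_iff' _).2 h)
  haveI : Fintype (G ⧸ nm el) := Fintype.ofFinite _
  set M₀ : G ⧸ nm el := QuotientGroup.mk (1 : G) with hM₀
  set T' : Finset (G ⧸ nm el) := Finset.univ.erase M₀ with hT'
  have hmemT : ∀ g : G, g ∉ nm el → (g : G ⧸ nm el) ∈ T' := fun g hg => by
    refine Finset.mem_erase.2 ⟨fun e => hg ?_, Finset.mem_univ _⟩
    simpa using inv_mem (QuotientGroup.eq.1 e)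
  let h : Fin 9 × (G ⧸ nm el) → G := fun p => p.2.out * el p.1
  let w : Fin 9 × (G ⧸ nm el) → G := fun p => h p * el 81 * (h p)⁻¹
  have hcos : ∀ p, (h p : G ⧸ nm el) = p.2 := fun p => by
    rw [QuotientGroup.mk_mul_of_mem _ (el_mem_nm C (by have := p.1.2; omega)), QuotientGroup.out_eq']
  have hfix : ∀ p, (w p) • p.2 = p.2 := fun p => by
    rw [← hcos p, MulAction.Quotient.smul_coe, smul_eq_mul,
      show w p * h p = h p * el 81 by simp only [w]; group, QuotientGroup.mk_mul_of_mem _ (el81_mem C)]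
  have hinj : Function.Injective w := fun p q e => by
    have hX : p.2 = q.2 := by
      have := coset_of_fix C hO (h := h q) (X := p.2) (by show w q • p.2 = p.2; rw [← e]; exact hfix p)
      rw [hcos] at this
      exact this.symm
    refine Prod.ext (Fin.ext (chk_nine _ p.1.2 _ q.1.2 ?_)) hX
    have hp := p.1.2
    have hq := q.1.2
    refine C.inj _ (cj_lt (by omega) (by norm_num)) _ (cj_lt (by omega) (by norm_num)) ?_
    simp only [w, h, hX] at e
    rw [← C.conj (by omega) (by norm_num), ← C.conj (by omega) (by norm_num)]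
    refine mul_left_cancel (a := q.2.out) (mul_right_cancel (b := (q.2.out)⁻¹) ?_)
    simpa [mul_assoc] using e
  set S' := (Finset.univ : Finset (Fin 9)) ×ˢ T' with hS'
  have hmaps : ∀ p ∈ S', (w p) • M₀ ∈ T' := fun p hp => by
    refine Finset.mem_erase.2 ⟨fun e => ?_, Finset.mem_univ _⟩
    have := coset_of_fix C hO (h := h p) (X := M₀) e
    rw [hcos] at this
    exact (Finset.mem_erase.1 (Finset.mem_product.1 hp).2).1 this
  obtain ⟨Y, hY, hY9⟩ := Finset.exists_le_card_fiber_of_mul_le_card_of_maps_to hmaps ⟨_, hmemT g₀ hg₀⟩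
    (n := 9) (le_of_eq (by rw [hS', Finset.card_product, Finset.card_univ, Fintype.card_fin, mul_comm]))
  set F := S'.filter fun p => (w p) • M₀ = Y with hF
  obtain ⟨p₀, hp₀⟩ : F.Nonempty := Finset.card_pos.1 (by omega)
  -- the group fixing the two cosets
  set U := nm el ⊓ MulAction.stabilizer G Y with hU
  have hYne : Y ≠ M₀ := (Finset.mem_erase.1 hY).1
  have hw2 : ∀ p, w p * w p = 1 := fun p => by
    simp only [w]
    rw [show h p * el 81 * (h p)⁻¹ * (h p * el 81 * (h p)⁻¹) = h p * (el 81 * el 81) * (h p)⁻¹ by group, C.z_sq]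
    group
  have hM : ∀ {g : G}, g ∈ nm el → g • M₀ = M₀ := fun {g} hg => by
    rw [hM₀, MulAction.Quotient.smul_coe, smul_eq_mul, mul_one, QuotientGroup.eq, mul_one]
    exact inv_mem hg
  have hback : ∀ p ∈ F, (w p) • Y = M₀ := fun p hp => by
    rw [← (Finset.mem_filter.1 hp).2, ← mul_smul, hw2, one_smul]
  have hUmem : ∀ p ∈ F, w p₀ * w p ∈ U := fun p hp => by
    refine ⟨?_, ?_⟩
    · have e : (w p₀ * w p) • M₀ = M₀ := by
        rw [mul_smul, (Finset.mem_filter.1 hp).2, hback p₀ hp₀]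
      rw [hM₀, MulAction.Quotient.smul_coe, smul_eq_mul, mul_one, QuotientGroup.eq, mul_one] at e
      simpa using inv_mem e
    · show (w p₀ * w p) • Y = Y
      rw [mul_smul, hback p hp, (Finset.mem_filter.1 hp₀).2]
  have hcard : 9 ≤ Nat.card U := by
    refine hY9.trans ?_
    rw [← Nat.card_eq_finsetCard]
    exact Nat.card_le_card_of_injective (fun p : F => (⟨w p₀ * w p.1, hUmem p.1 p.2⟩ : U))
      fun p q e => Subtype.ext (hinj (mul_left_cancel (congrArg Subtype.val e)))
  -- no element of order three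
  have hno3 : ∀ f ∈ U, f ^ 3 = 1 → f = 1 := fun f hf h3 => by
    by_contra h1
    induction Y using QuotientGroup.induction_on with | _ k => ?_
    have hk : k⁻¹ * f * k⁻¹⁻¹ ∈ nm el := by
      have : f • (k : G ⧸ nm el) = (k : G ⧸ nm el) := hf.2
      rw [ MulAction.Quotient.smul_coe, smul_eq_mul, QuotientGroup.eq] at this
      simpa [mul_assoc] using inv_mem this
    have := mem_of_conj_three C hO hf.1 h3 h1 hk
    refine hYne ?_
    rw [hM₀, QuotientGroup.eq, mul_one]
    exact this
  -- the part centralising the element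
  set V := U ⊓ Subgroup.centralizer ({el 9} : Set G) with hV
  have hV1 : V ≠ ⊥ := by
    intro hbot
    have hinjU : Function.Injective (fun u : U => decide ((u : G) * el 9 * (u : G)⁻¹ = el 9)) := fun u v e => by
      have e' := decide_eq_decide.1 e
      have hv : ∀ x : U, (x : G) * el 9 * (x : G)⁻¹ = el 9 ∨ (x : G) * el 9 * (x : G)⁻¹ = (el 9)⁻¹ :=
        fun x => (mem_nm C).1 x.2.1
      have hmem : (u : G)⁻¹ * v ∈ V := by
        refine ⟨(mul_mem (inv_mem u.2) v.2 : (u : G)⁻¹ * v ∈ U), Subgroup.mem_centralizer_singleton_iff.2 (mul_inv_eq_iff_eq_mul.1 ?_)⟩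
        have h' : (v : G) * el 9 * (v : G)⁻¹ = (u : G) * el 9 * (u : G)⁻¹ := by
          rcases hv u with hu | hu
          · rw [hu, e'.1 hu]
          · rcases hv v with hv' | hv'
            · rw [hv', e'.2 hv']
            · rw [hu, hv']
        rw [show (u : G)⁻¹ * v * el 9 * ((u : G)⁻¹ * v)⁻¹ = (u : G)⁻¹ * ((v : G) * el 9 * (v : G)⁻¹) * u by group, h']
        group
      rw [hbot, Subgroup.mem_bot, inv_mul_eq_one] at hmem
      exact Subtype.ext hmem
    have := Nat.card_le_card_of_injective _ hinjU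
    simp at this
    omega
  -- an involution in it
  have hdvd : Nat.card V ∣ 648 := C.card_cent ▸ Subgroup.card_dvd_of_le inf_le_right
  have hco : (Nat.card V).Coprime 3 := by
    haveI : Fact (Nat.Prime 3) := ⟨Nat.prime_three⟩
    rw [Nat.coprime_comm, Nat.prime_three.coprime_iff_not_dvd]
    intro h3
    obtain ⟨x, hx⟩ := exists_prime_orderOf_dvd_card' 3 h3
    have hx1 := hno3 x x.2.1 (by
      rw [show (x : G) ^ 3 = ((x ^ 3 : V) : G) from (SubgroupClass.coe_pow x 3).symm, ← hx, pow_orderOf_eq_one]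
      rfl)
    rw [show x = 1 from Subtype.ext hx1, orderOf_one] at hx
    norm_num at hx
  have h2 : 2 ∣ Nat.card V := by
    by_contra hodd
    have hc8 : (Nat.card V).Coprime (8 * 81) :=
      Nat.Coprime.mul_right (Nat.Coprime.pow_right 3 ((Nat.prime_two.coprime_iff_not_dvd.2 hodd).symm))
        (Nat.Coprime.pow_right 4 hco)
    exact hV1 (Subgroup.card_eq_one.1 (hc8.eq_one_of_dvd (by norm_num; exact hdvd)))
  obtain ⟨t, ht⟩ := exists_prime_orderOf_dvd_card' 2 h2
  obtain ⟨i, hi, hie⟩ := (C.mem _).1 (Subgroup.mem_centralizer_singleton_iff.1 t.2.2)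
  have htt : (t : G) * t = 1 := by
    have := congrArg Subtype.val (pow_orderOf_eq_one t)
    rw [ht, SubgroupClass.coe_pow, pow_two] at this
    exact this
  rcases chk_invol i hi (C.inj _ (T_lt hi hi) _ (by norm_num) (by rw [← C.mul i hi i hi, hie, htt, C.el_zero]))
    with rfl | ⟨c, hc, hce⟩
  · rw [C.el_zero] at hie
    rw [show t = 1 from Subtype.ext hie.symm, orderOf_one] at ht
    norm_num at ht
  · have hte : el c * el 81 * (el c)⁻¹ = t := by rw [C.conj hc (by norm_num), hce, hie]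
    have e1 := coset_of_fix C hO (h := el c) (X := Y) (by rw [hte]; exact t.2.1.2)
    have e2 := coset_of_fix C hO (h := el c) (X := M₀) (by rw [hte]; exact hM t.2.1.1)
    exact hYne (e1.symm.trans e2)

end Cfsg.Agent.S3342Two
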