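import Cfsg.Agent.Lib.S3342Two.Table
import Cfsg.Agent.Lib.S3342Id.Part

/-!
S3342, the case of an orbit of two points: the induced maps, and the normaliser of the line.
-/

set_option autoImplicit false
set_option maxRecDepth 20000
set_option synthInstance.maxSize 10000
set_option linter.unusedSectionVars false

namespace Cfsg.Agent.S3342Two

open Cfsg.Agent.Hayden Cfsg.Agent.Hayden.Cfg Cfsg.Agent.S3342Id.LocalCent

variable {G : Type*} [Group G] [Finite G] {el : ℕ → G}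

/-- The normaliser of the line. -/
def nm (el : ℕ → G) : Subgroup G := Subgroup.normalizer (Subgroup.zpowers (el 9) : Set G)

variable (C : Cfg el)
include C

theorem mem_nm {g : G} : g ∈ nm el ↔ g * el 9 * g⁻¹ = el 9 ∨ g * el 9 * g⁻¹ = (el 9)⁻¹ := by
  have h3 : el 9 ^ 3 = 1 := by rw [← C.order_nine, pow_orderOf_eq_one]
  constructor
  · intro h
    obtain ⟨k, hk⟩ := Subgroup.mem_zpowers_iff.1
      ((Subgroup.mem_normalizer_iff.1 h (el 9)).1 (Subgroup.mem_zpowers _))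
    have hk3 := zpow_eq_zpow_emod' k h3
    have h0 : 0 ≤ k % ((3 : ℕ) : ℤ) := Int.emod_nonneg _ (by norm_num)
    have h1 : k % ((3 : ℕ) : ℤ) < 3 := Int.emod_lt_of_pos _ (by norm_num)
    rcases (by omega : k % ((3 : ℕ) : ℤ) = 0 ∨ k % ((3 : ℕ) : ℤ) = 1 ∨ k % ((3 : ℕ) : ℤ) = 2) with e | e | e
    · rw [hk3, e, zpow_zero, eq_comm, conj_eq_one_iff] at hk
      exact absurd hk C.el_nine_ne
    · rw [hk3, e, zpow_one] at hk
      exact Or.inl hk.symm
    · rw [hk3, e] at hk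
      refine Or.inr (hk.symm.trans (eq_inv_of_mul_eq_one_left ?_))
      rw [← zpow_add_one, show (2 : ℤ) + 1 = ((3 : ℕ) : ℤ) by norm_num, zpow_natCast, h3]
  · intro h
    refine Subgroup.mem_normalizer_fintype fun x hx => ?_
    obtain ⟨k, rfl⟩ := Subgroup.mem_zpowers_iff.1 hx
    show g * el 9 ^ k * g⁻¹ ∈ Subgroup.zpowers (el 9)
    rw [← conj_zpow]
    rcases h with e | e <;> rw [e]
    · exact ⟨k, rfl⟩
    · exact ⟨-k, by show el 9 ^ (-k) = _; rw [zpow_neg, inv_zpow]⟩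

theorem cent_le_nm : Subgroup.centralizer ({el 9} : Set G) ≤ nm el := fun g hg =>
  (mem_nm C).2 (Or.inl (mul_inv_eq_iff_eq_mul.2 (Subgroup.mem_centralizer_singleton_iff.1 hg)))

theorem el_mem_nm {i : ℕ} (hi : i < 648) : el i ∈ nm el :=
  cent_le_nm C (Subgroup.mem_centralizer_singleton_iff.2 (C.el_comm hi))

theorem exists_index {g : G} (h : g * el 9 * g⁻¹ = el 9) : ∃ i < 648, el i = g :=
  (C.mem g).1 (mul_inv_eq_iff_eq_mul.1 h)

theorem vi_two : el (vi 2) = (el 9)⁻¹ := by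
  rw [show vi 2 = 18 by decide +kernel, C.el_eighteen]

/-- A map of the list with the images. -/
theorem mem_L12 (hO : ∀ v < 27, C.Orb v ↔ v = 1 ∨ v = 2) {A : ℕ × ℕ × ℕ} (hA : C.Real A) : A ∈ L12 := by
  have h1 : A.1 = 1 ∨ A.1 = 2 := by
    obtain ⟨h1, -, -, n, e, -, -⟩ := hA
    exact (hO _ h1).1 ⟨n, by rw [← e, chk_vi.2.2.1]⟩
  rcases h1 with h1 | h1
  · have := (chk_L12.2 _ (C.mem_Xa_of_real hA h1)).1
    rwa [← h1] at this
  obtain ⟨q, r, hA₀⟩ := C.real_of_orb (show 2 < 27 by norm_num) ((hO 2 (by norm_num)).2 (Or.inr rfl))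
  have hneg : C.Real negMap := by
    have key : ∀ D, C.Real D → (!(D.1 == 1) || Xa.contains D.2) = true := fun D hD => by
      by_cases h : D.1 = 1
      · simp [h, C.mem_Xa_of_real hD h]
      · simp [h]
    rcases chk_neg q hA₀.2.1 r hA₀.2.2.1 with h | h | ⟨x, hx, hxe⟩
    · rw [C.not_sing hA₀] at h
      exact absurd h Bool.false_ne_true
    · have : normB (2, q, r) = true := by
        simp only [normB, Bool.and_eq_true, List.all_eq_true]
        exact ⟨fun x hx => key _ (C.real_comp (C.real_comp hA₀ (C.real_Xa hx)) (C.real_linv hA₀)),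
          key _ (C.real_comp hA₀ hA₀)⟩
      rw [h] at this
      exact absurd this Bool.false_ne_true
    · exact hxe ▸ C.real_comp hA₀ (C.real_Xa hx)
  have hc := C.real_comp hneg hA
  have e1 : (comp negMap A).1 = 1 := by
    show app negMap A.1 = 1
    rw [h1]; decide +kernel
  have hx := C.mem_Xa_of_real hc e1
  have hinv := chk_maps.2.2.2.1
  obtain ⟨hA1, hA2, hA3, -⟩ := hA
  have : A = comp negMap (1, (comp negMap A).2) := by
    refine Prod.ext ?_ (Prod.ext ?_ ?_)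
    · show A.1 = app negMap 1
      rw [h1]; decide +kernel
    · exact (hinv _ hA2).symm
    · exact (hinv _ hA3).symm
  rw [this]
  exact (chk_L12.2 _ hx).2

theorem real_neg (hO : ∀ v < 27, C.Orb v ↔ v = 1 ∨ v = 2) : C.Real negMap := by
  obtain ⟨q, r, hA⟩ := C.real_of_orb (show 2 < 27 by norm_num) ((hO 2 (by norm_num)).2 (Or.inr rfl))
  rcases chk_L12.1 _ (mem_L12 C hO hA) with ⟨h, -⟩ | ⟨x, hx, he⟩
  · exact absurd h (by norm_num)
  · -- undo the map induced by the centraliser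
    have hxy : ∃ y ∈ Xa, comp (comp negMap (1, x)) (1, y) = negMap :=
      (show ∀ x ∈ Xa, ∃ y ∈ Xa, comp (comp negMap (1, x)) (1, y) = negMap by decide +kernel) x hx
    obtain ⟨y, hy, hye⟩ := hxy
    rw [← hye, ← he]
    exact C.real_comp hA (C.real_Xa hy)

theorem real_L12 (hO : ∀ v < 27, C.Orb v ↔ v = 1 ∨ v = 2) {B : ℕ × ℕ × ℕ} (hB : B ∈ L12) : C.Real B := by
  rcases chk_L12.1 B hB with ⟨h, h'⟩ | ⟨x, hx, rfl⟩
  · have := C.real_Xa h'
    rwa [← h] at this
  · exact C.real_comp (real_neg C hO) (C.real_Xa hx)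

/-- Elements normalising the abelian subgroup normalise the line. -/
theorem norm_le_nm (hO : ∀ v < 27, C.Orb v ↔ v = 1 ∨ v = 2) : Subgroup.normalizer (C.VJ : Set G) ≤ nm el := by
  intro g hg
  obtain ⟨A, hA, hAg⟩ := C.act_norm hg
  have h := hAg 1 (by norm_num)
  rw [chk_vi.2.2.1] at h
  rcases (hO _ (app_lt A 1)).1 ⟨g, h⟩ with e | e <;> rw [e] at h
  · rw [chk_vi.2.2.1] at h
    exact (mem_nm C).2 (Or.inl h)
  · rw [vi_two C] at h
    exact (mem_nm C).2 (Or.inr h)

end Cfsg.Agent.S3342Two
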