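import Cfsg.Agent.Lib.S3342Id.PointTables
import Cfsg.Agent.Lib.Hayden.Swap

/-!
S3342, the case of an orbit of two points: tables.
-/

set_option autoImplicit false
set_option maxRecDepth 100000
set_option synthInstance.maxSize 10000

namespace Cfsg.Agent.S3342Two

open Cfsg.Agent.Hayden Cfsg.Agent.S3342Id.LocalCent

/-- The maps induced on the abelian subgroup. -/
def L12 : List (ℕ × ℕ × ℕ) :=
  [(1, 3, 9), (1, 5, 17), (1, 4, 14), (1, 6, 9), (1, 8, 14), (1, 7, 17), (2, 6, 18), (2, 7, 22), (2, 8, 25),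
    (2, 3, 18), (2, 4, 25), (2, 5, 22)]

/-- The centralised plane. -/
def pl : List ℕ := [0, 1, 2, 9, 10, 11, 18, 19, 20]

/-- The conjugation of a map fixing the line carries the induced maps to induced maps. -/
def normB (A : ℕ × ℕ × ℕ) : Bool :=
  Xa.all (fun x =>
    let c := comp (comp A (1, x)) (linv A)
    !(c.1 == 1) || Xa.contains c.2) &&
    (let d := comp A A
     !(d.1 == 1) || Xa.contains d.2)

theorem chk_neg : ∀ q < 27, ∀ r < 27, sing (2, q, r) = true ∨ normB (2, q, r) = false ∨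
    ∃ x ∈ Xa, comp (2, q, r) (1, x) = negMap := by decide +kernel

theorem chk_L12 : (∀ B ∈ L12, B.1 = 1 ∧ B.2 ∈ Xa ∨ ∃ x ∈ Xa, B = comp negMap (1, x)) ∧
    (∀ x ∈ Xa, ((1, x) : ℕ × ℕ × ℕ) ∈ L12 ∧ comp negMap (1, x) ∈ L12) := by decide +kernel

theorem chk_orbits : ∀ v < 27, v ∈ [0, 1, 2] ∨ ∃ B ∈ L12, app B v ∈ [3, 9, 10, 11] := by decide +kernel

theorem chk_stab : (∀ B ∈ L12, ∀ v ∈ [9, 10, 11], app B v = v → B = (1, 3, 9) ∨ B = (1, 6, 9)) ∧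
    (∀ B ∈ L12, app B 3 = 3 → B = (1, 3, 9) ∨ B = (2, 3, 18)) := by decide +kernel

theorem line_ok : invB (0, 0, 1) (1, 0, 0) [(1, 3, 9), (1, 6, 9)] = true ∧ addB (0, 0, 1) (1, 0, 0) = true ∧
    (∀ u < 27, fn (0, 0, 1) u = 0 ∧ fn (1, 0, 0) u = 0 → u = 0 ∨ u = 3 ∨ u = vneg 3) ∧
    fn (0, 0, 1) 3 = 0 ∧ fn (1, 0, 0) 3 = 0 ∧ app (1, 6, 9) 3 ≠ 3 := by decide +kernel

theorem plane_ok : invB (0, 1, 0) (0, 0, 0) [(1, 3, 9), (2, 3, 18)] = true ∧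
    addB (0, 1, 0) (0, 0, 0) = true ∧ genB (0, 1, 0) (0, 0, 0) [0, 3, 6] = true ∧
    (∀ t < 27, fn (0, 1, 0) t = 0 → app (2, 3, 18) t = vneg t ∧ app (1, 3, 9) t = t) ∧
    fn (0, 1, 0) 1 = 0 ∧ fn (0, 1, 0) 9 = 0 := by decide +kernel

theorem pl_ok : (∀ v ∈ pl, v < 27 ∧ app zMap v = v ∧ app negMap v = vneg v ∧
      v = vadd (vsm (v % 3) 1) (vsm (v / 9) 9)) ∧
    (∀ v < 27, v ∈ pl ↔ v / 3 % 3 = 0) ∧ pl.Nodup := by decide +kernel

/-- Cube of an index. -/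
def c3 (i : ℕ) : ℕ := T (T i i) i

theorem chk_conj81 : ∀ i < 648, c3 i = 0 → ∃ c < 648, cj c i < 81 := by decide +kernel

theorem chk_invol : ∀ i < 648, T i i = 0 → i = 0 ∨ ∃ c < 648, cj c 81 = i := by decide +kernel

theorem chk_R_char : (∀ i < 27, c3 i = 0) ∧ (∀ i < 27, ∀ k < 648, cj k i < 27) ∧
    (∀ i < 27, ∀ j < 27, c3 (T i j) = 0) ∧
    (∀ i < 648, 27 ≤ i → c3 i = 0 → ∃ k < 648, c3 (T i (cj k i)) ≠ 0) := by decide +kernel

theorem chk_cent_z : ∀ i < 648, T i 81 = T 81 i →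
    T (T (c3 i) (c3 i)) (T (c3 i) (c3 i)) = 0 ∧
      ((∃ v ∈ pl, vi v = cj i 27) → cj i 27 = 27 ∧ (c3 i = 0 → ∃ v ∈ pl, vi v = i)) := by decide +kernel

theorem chk_nine : ∀ i < 9, ∀ j < 9, cj i 81 = cj j 81 → i = j := by decide +kernel

end Cfsg.Agent.S3342Two
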